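/-
Recognition of Sp₄(q), q even: the Steinberg presentation of type B₂ in characteristic 2 from two copies of SL₂.

Roots (indices as in `Def_ChevB2`): 0 = -(2a+b), 1 = -(a+b), 2 = -a, 3 = -b, 4 = b, 5 = a, 6 = a+b, 7 = 2a+b,
a short, b long.
-/
import Cfsg.Prelude.Def_Steinberg
import Cfsg.Prelude.Def_ChevB2

set_option autoImplicit false
set_option linter.all false

namespace Cfsg.Agent.SpFour.Steinberg

open Cfsg.Lie Matrix

section SL

variable {F : Type*} [Field F]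

/-- upper unitriangular -/
def up (t : F) : Matrix.SpecialLinearGroup (Fin 2) F := ⟨!![1, t; 0, 1], by simp [Matrix.det_fin_two]⟩

/-- lower unitriangular -/
def lo (t : F) : Matrix.SpecialLinearGroup (Fin 2) F := ⟨!![1, 0; t, 1], by simp [Matrix.det_fin_two]⟩

/-- the Weyl element `up 1 * lo (-1) * up 1` -/
def we : Matrix.SpecialLinearGroup (Fin 2) F := ⟨!![0, 1; -1, 0], by simp [Matrix.det_fin_two]⟩

/-- diagonal element -/
def dg (c : Fˣ) : Matrix.SpecialLinearGroup (Fin 2) F :=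
  ⟨!![(c : F), 0; 0, ((c⁻¹ : Fˣ) : F)], by simp [Matrix.det_fin_two]⟩

theorem coe_up (t : F) : (up t : Matrix (Fin 2) (Fin 2) F) = !![1, t; 0, 1] := rfl
theorem coe_lo (t : F) : (lo t : Matrix (Fin 2) (Fin 2) F) = !![1, 0; t, 1] := rfl
theorem coe_we : ((we : Matrix.SpecialLinearGroup (Fin 2) F) : Matrix (Fin 2) (Fin 2) F) = !![0, 1; -1, 0] := rfl
theorem coe_dg (c : Fˣ) : (dg c : Matrix (Fin 2) (Fin 2) F) = !![(c : F), 0; 0, ((c⁻¹ : Fˣ) : F)] := rfl

theorem up_add (s t : F) : up (s + t) = up s * up t := by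
  apply Subtype.ext
  rw [Matrix.SpecialLinearGroup.coe_mul, coe_up, coe_up, coe_up, Matrix.mul_fin_two]
  simp [add_comm]

theorem lo_add (s t : F) : lo (s + t) = lo s * lo t := by
  apply Subtype.ext
  rw [Matrix.SpecialLinearGroup.coe_mul, coe_lo, coe_lo, coe_lo, Matrix.mul_fin_two]
  simp

theorem up_zero : up (0 : F) = 1 := by
  apply Subtype.ext
  rw [coe_up, Matrix.SpecialLinearGroup.coe_one, Matrix.one_fin_two]

theorem lo_zero : lo (0 : F) = 1 := by
  apply Subtype.ext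
  rw [coe_lo, Matrix.SpecialLinearGroup.coe_one, Matrix.one_fin_two]

theorem dg_mul (c d : Fˣ) : dg (c * d) = dg c * dg d := by
  apply Subtype.ext
  rw [Matrix.SpecialLinearGroup.coe_mul, coe_dg, coe_dg, coe_dg, Matrix.mul_fin_two]
  simp [mul_comm]

theorem up_lo_up (c : Fˣ) : up (c : F) * lo (-((c : F))⁻¹) * up (c : F) * (up (-1) * lo 1 * up (-1)) = dg c := by
  apply Subtype.ext
  simp only [Matrix.SpecialLinearGroup.coe_mul, coe_up, coe_lo, coe_dg, Matrix.mul_fin_two]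
  simp

variable [CharP F 2]

theorem we_mul_we : (we : Matrix.SpecialLinearGroup (Fin 2) F) * we = 1 := by
  apply Subtype.ext
  simp only [Matrix.SpecialLinearGroup.coe_mul, coe_we, Matrix.mul_fin_two, Matrix.SpecialLinearGroup.coe_one,
    Matrix.one_fin_two]
  simp [CharTwo.neg_eq]

theorem we_inv : (we : Matrix.SpecialLinearGroup (Fin 2) F)⁻¹ = we :=
  inv_eq_of_mul_eq_one_left we_mul_we

theorem we_up (t : F) : we * up t * we⁻¹ = lo t := by
  rw [we_inv]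
  apply Subtype.ext
  simp only [Matrix.SpecialLinearGroup.coe_mul, coe_up, coe_lo, coe_we, Matrix.mul_fin_two]
  simp [CharTwo.neg_eq]

theorem we_lo (t : F) : we * lo t * we⁻¹ = up t := by
  rw [we_inv]
  apply Subtype.ext
  simp only [Matrix.SpecialLinearGroup.coe_mul, coe_up, coe_lo, coe_we, Matrix.mul_fin_two]
  simp [CharTwo.neg_eq]

end SL

/-- The data: two homomorphisms from SL₂(F) satisfying the relations of Sp₄(F), char F = 2. -/
structure TwoSL (F : Type*) [Field F] (G : Type*) [Group G] where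
  /-- short -/
  φa : Matrix.SpecialLinearGroup (Fin 2) F →* G
  /-- long -/
  φb : Matrix.SpecialLinearGroup (Fin 2) F →* G
  pa : ∀ g h, Commute (φa g) (φb we * φa h * (φb we)⁻¹)
  pb : ∀ g h, Commute (φb g) (φa we * φb h * (φa we)⁻¹)
  c45 : ∀ t u : F, Commute (φa (up t)) (φa we * φb (up u) * (φa we)⁻¹)
  c135 : ∀ t u : F, (φa (up t))⁻¹ * (φb (up u))⁻¹ * φa (up t) * φb (up u) =
    (φb we * φa (up (t * u)) * (φb we)⁻¹) * (φa we * φb (up (t ^ 2 * u)) * (φa we)⁻¹)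

namespace TwoSL

variable {F : Type*} [Field F] {G : Type*} [Group G] (D : TwoSL F G)

/-- n_a -/
def na : G := D.φa we
/-- n_b -/
def nb : G := D.φb we

/-- the SL₂-homomorphism attached to the root r -/
def ψ : Fin 8 → (Matrix.SpecialLinearGroup (Fin 2) F →* G)
  | 0 => (MulAut.conj (D.na * D.nb)).toMonoidHom.comp D.φb
  | 1 => (MulAut.conj (D.nb * D.na)).toMonoidHom.comp D.φa
  | 2 => (MulAut.conj D.na).toMonoidHom.comp D.φa
  | 3 => (MulAut.conj D.nb).toMonoidHom.comp D.φb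
  | 4 => D.φb
  | 5 => D.φa
  | 6 => (MulAut.conj D.nb).toMonoidHom.comp D.φa
  | 7 => (MulAut.conj D.na).toMonoidHom.comp D.φb

/-- the root elements -/
def x (r : Fin 8) (t : F) : G := D.ψ r (up t)

/-- negative -/
def ng : Fin 8 → Fin 8 := ![7, 6, 5, 4, 3, 2, 1, 0]
/-- reflection in a -/
def σa : Fin 8 → Fin 8 := ![3, 1, 5, 0, 7, 2, 6, 4]
/-- reflection in b -/
def σb : Fin 8 → Fin 8 := ![0, 2, 1, 4, 3, 6, 5, 7]

theorem x_add (r : Fin 8) (s t : F) : D.x r (s + t) = D.x r s * D.x r t := by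
  simp [x, up_add]

variable [CharP F 2]

theorem na_mul_na : D.na * D.na = 1 := by rw [na, ← map_mul, we_mul_we, map_one]
theorem nb_mul_nb : D.nb * D.nb = 1 := by rw [nb, ← map_mul, we_mul_we, map_one]
theorem na_inv : D.na⁻¹ = D.na := inv_eq_of_mul_eq_one_left D.na_mul_na
theorem nb_inv : D.nb⁻¹ = D.nb := inv_eq_of_mul_eq_one_left D.nb_mul_nb

theorem na_φa (g : Matrix.SpecialLinearGroup (Fin 2) F) : D.na * D.φa g * D.na⁻¹ = D.φa (we * g * we⁻¹) := by
  simp [na]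
theorem nb_φb (g : Matrix.SpecialLinearGroup (Fin 2) F) : D.nb * D.φb g * D.nb⁻¹ = D.φb (we * g * we⁻¹) := by
  simp [nb]

/-- n_a centralises L_{a+b} -/
theorem na_nb (g : Matrix.SpecialLinearGroup (Fin 2) F) :
    D.na * (D.nb * D.φa g * D.nb⁻¹) * D.na⁻¹ = D.nb * D.φa g * D.nb⁻¹ := by
  have := (D.pa we g).eq
  change D.na * (D.nb * D.φa g * D.nb⁻¹) = (D.nb * D.φa g * D.nb⁻¹) * D.na at this
  rw [this, mul_inv_cancel_right]

theorem nb_na (g : Matrix.SpecialLinearGroup (Fin 2) F) :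
    D.nb * (D.na * D.φb g * D.na⁻¹) * D.nb⁻¹ = D.na * D.φb g * D.na⁻¹ := by
  have := (D.pb we g).eq
  change D.nb * (D.na * D.φb g * D.na⁻¹) = (D.na * D.φb g * D.na⁻¹) * D.nb at this
  rw [this, mul_inv_cancel_right]

theorem ψ_lo (r : Fin 8) (t : F) : D.ψ r (lo t) = D.x (ng r) t := by
  have ha := D.na_φa (lo t)
  have hb := D.nb_φb (lo t)
  have ha' := D.na_φa (up t)
  have hb' := D.nb_φb (up t)
  rw [we_lo] at ha hb
  rw [we_up] at ha' hb'
  fin_cases r
  · show (D.na * D.nb) * D.φb (lo t) * (D.na * D.nb)⁻¹ = D.na * D.φb (up t) * D.na⁻¹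
    rw [← hb]; group
  · show (D.nb * D.na) * D.φa (lo t) * (D.nb * D.na)⁻¹ = D.nb * D.φa (up t) * D.nb⁻¹
    rw [← ha]; group
  · exact ha
  · exact hb
  · exact hb'.symm
  · exact ha'.symm
  · show D.nb * D.φa (lo t) * D.nb⁻¹ = (D.nb * D.na) * D.φa (up t) * (D.nb * D.na)⁻¹
    rw [← ha']; group
  · show D.na * D.φb (lo t) * D.na⁻¹ = (D.na * D.nb) * D.φb (up t) * (D.na * D.nb)⁻¹
    rw [← hb']; group

theorem conj_conj_na (g : G) : D.na * (D.na * g * D.na⁻¹) * D.na⁻¹ = g := by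
  have h := D.na_mul_na
  have h' := D.na_inv
  rw [h']
  calc D.na * (D.na * g * D.na) * D.na = (D.na * D.na) * g * (D.na * D.na) := by group
    _ = g := by rw [h]; simp

theorem conj_conj_nb (g : G) : D.nb * (D.nb * g * D.nb⁻¹) * D.nb⁻¹ = g := by
  have h := D.nb_mul_nb
  have h' := D.nb_inv
  rw [h']
  calc D.nb * (D.nb * g * D.nb) * D.nb = (D.nb * D.nb) * g * (D.nb * D.nb) := by group
    _ = g := by rw [h]; simp

theorem x0 (t : F) : D.x 0 t = D.na * (D.nb * D.φb (up t) * D.nb⁻¹) * D.na⁻¹ := by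
  show (D.na * D.nb) * D.φb (up t) * (D.na * D.nb)⁻¹ = _
  group
theorem x1 (t : F) : D.x 1 t = D.nb * (D.na * D.φa (up t) * D.na⁻¹) * D.nb⁻¹ := by
  show (D.nb * D.na) * D.φa (up t) * (D.nb * D.na)⁻¹ = _
  group
theorem x2 (t : F) : D.x 2 t = D.na * D.φa (up t) * D.na⁻¹ := rfl
theorem x3 (t : F) : D.x 3 t = D.nb * D.φb (up t) * D.nb⁻¹ := rfl
theorem x4 (t : F) : D.x 4 t = D.φb (up t) := rfl
theorem x5 (t : F) : D.x 5 t = D.φa (up t) := rfl
theorem x6 (t : F) : D.x 6 t = D.nb * D.φa (up t) * D.nb⁻¹ := rfl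
theorem x7 (t : F) : D.x 7 t = D.na * D.φb (up t) * D.na⁻¹ := rfl

theorem na_x (r : Fin 8) (t : F) : D.na * D.x r t * D.na⁻¹ = D.x (σa r) t := by
  fin_cases r
  · show D.na * D.x 0 t * D.na⁻¹ = D.x 3 t
    rw [x0, conj_conj_na, x3]
  · show D.na * D.x 1 t * D.na⁻¹ = D.x 1 t
    rw [x1, D.na_φa, D.na_nb]
  · show D.na * D.x 2 t * D.na⁻¹ = D.x 5 t
    rw [x2, conj_conj_na, x5]
  · show D.na * D.x 3 t * D.na⁻¹ = D.x 0 t
    rw [x0, x3]
  · rfl
  · rfl
  · show D.na * D.x 6 t * D.na⁻¹ = D.x 6 t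
    rw [x6, D.na_nb]
  · show D.na * D.x 7 t * D.na⁻¹ = D.x 4 t
    rw [x7, conj_conj_na, x4]

theorem nb_x (r : Fin 8) (t : F) : D.nb * D.x r t * D.nb⁻¹ = D.x (σb r) t := by
  fin_cases r
  · show D.nb * D.x 0 t * D.nb⁻¹ = D.x 0 t
    rw [x0, D.nb_φb, D.nb_na]
  · show D.nb * D.x 1 t * D.nb⁻¹ = D.x 2 t
    rw [x1, conj_conj_nb, x2]
  · show D.nb * D.x 2 t * D.nb⁻¹ = D.x 1 t
    rw [x1, x2]
  · show D.nb * D.x 3 t * D.nb⁻¹ = D.x 4 t
    rw [x3, conj_conj_nb, x4]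
  · rfl
  · rfl
  · show D.nb * D.x 6 t * D.nb⁻¹ = D.x 5 t
    rw [x6, conj_conj_nb, x5]
  · show D.nb * D.x 7 t * D.nb⁻¹ = D.x 7 t
    rw [x7, D.nb_na]

/-- the commutation relation for the pair r, s -/
def Com (r s : Fin 8) : Prop := ∀ t u : F, Commute (D.x r t) (D.x s u)

/-- the commutator relation for a short root s and a long root l at an angle of 135 degrees, s + l = i, 2s + l = j -/
def Rel (s l i j : Fin 8) : Prop := ∀ t u : F,
  (D.x s t)⁻¹ * (D.x l u)⁻¹ * D.x s t * D.x l u = D.x i (t * u) * D.x j (t ^ 2 * u)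

omit [CharP F 2] in
variable {D} in
theorem Com.symm {r s : Fin 8} (h : D.Com r s) : D.Com s r := fun t u => (h u t).symm

variable {D} in
theorem Com.na {r s : Fin 8} (h : D.Com r s) : D.Com (σa r) (σa s) := by
  intro t u
  rw [← D.na_x, ← D.na_x]
  exact (h t u).map (MulAut.conj D.na)

variable {D} in
theorem Com.nb {r s : Fin 8} (h : D.Com r s) : D.Com (σb r) (σb s) := by
  intro t u
  rw [← D.nb_x, ← D.nb_x]
  exact (h t u).map (MulAut.conj D.nb)

variable {D} in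
theorem Rel.na {s l i j : Fin 8} (h : D.Rel s l i j) : D.Rel (σa s) (σa l) (σa i) (σa j) := by
  intro t u
  rw [← D.na_x, ← D.na_x, ← D.na_x, ← D.na_x]
  have := congrArg (MulAut.conj D.na) (h t u)
  simpa only [map_mul, map_inv, MulAut.conj_apply] using this

variable {D} in
theorem Rel.nb {s l i j : Fin 8} (h : D.Rel s l i j) : D.Rel (σb s) (σb l) (σb i) (σb j) := by
  intro t u
  rw [← D.nb_x, ← D.nb_x, ← D.nb_x, ← D.nb_x]
  have := congrArg (MulAut.conj D.nb) (h t u)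
  simpa only [map_mul, map_inv, MulAut.conj_apply] using this

omit [CharP F 2] in
theorem com56 : D.Com 5 6 := fun t u => D.pa (up t) (up u)
theorem com26 : D.Com 2 6 := D.com56.na
theorem com51 : D.Com 5 1 := by
  intro t u
  rw [x1, D.na_φa, we_up]
  exact D.pa (up t) (lo u)
theorem com21 : D.Com 2 1 := D.com51.na
omit [CharP F 2] in
theorem com47 : D.Com 4 7 := fun t u => D.pb (up t) (up u)
theorem com37 : D.Com 3 7 := D.com47.nb
theorem com40 : D.Com 4 0 := by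
  intro t u
  rw [x0, D.nb_φb, we_up]
  exact D.pb (up t) (lo u)
theorem com30 : D.Com 3 0 := D.com40.nb
omit [CharP F 2] in
theorem com57 : D.Com 5 7 := fun t u => D.c45 t u
theorem com24 : D.Com 2 4 := D.com57.na
theorem com13 : D.Com 1 3 := D.com24.nb
theorem com10 : D.Com 1 0 := D.com13.na
theorem com20 : D.Com 2 0 := D.com10.nb
theorem com53 : D.Com 5 3 := D.com20.na
theorem com64 : D.Com 6 4 := D.com53.nb
theorem com67 : D.Com 6 7 := D.com64.na

omit [CharP F 2] in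
theorem rel54 : D.Rel 5 4 6 7 := fun t u => D.c135 t u
theorem rel27 : D.Rel 2 7 6 4 := D.rel54.na
theorem rel17 : D.Rel 1 7 5 3 := D.rel27.nb
theorem rel14 : D.Rel 1 4 2 0 := D.rel17.na
theorem rel63 : D.Rel 6 3 5 7 := D.rel54.nb
theorem rel60 : D.Rel 6 0 2 4 := D.rel63.na
theorem rel50 : D.Rel 5 0 1 3 := D.rel60.nb
theorem rel23 : D.Rel 2 3 1 0 := D.rel50.na

/-- root elements with index in ℕ -/
def X (r : ℕ) (t : F) : G := if h : r < 8 then D.x ⟨r, h⟩ t else 1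

/-- the value of a word -/
def W (w : List (ℕ × F)) : G := (w.map fun p => D.X p.1 p.2).prod

omit [CharP F 2] in
theorem x_zero (r : Fin 8) : D.x r 0 = 1 := by rw [x, up_zero, map_one]

omit [CharP F 2] in
theorem X_val (r : ℕ) (h : r < 8) (t : F) : D.X r t = D.x ⟨r, h⟩ t := dif_pos h

omit [CharP F 2] in
theorem comm_of_com {r s : Fin 8} (h : D.Com r s) (t u : F) : (D.x s u)⁻¹ * (D.x r t)⁻¹ * D.x s u * D.x r t = 1 := by
  have := (h t u).eq
  rw [mul_assoc, ← this]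
  group

omit [CharP F 2] in
theorem comm_of_com' {r s : Fin 8} (h : D.Com s r) (t u : F) : (D.x s u)⁻¹ * (D.x r t)⁻¹ * D.x s u * D.x r t = 1 :=
  D.comm_of_com h.symm t u

theorem comm_of_rel' {s l i j : Fin 8} (h : D.Rel s l i j) (hc : D.Com i j ∨ D.Com j i) (t u : F) :
    (D.x l u)⁻¹ * (D.x s t)⁻¹ * D.x l u * D.x s t = D.x i (t * u) * D.x j (t ^ 2 * u) := by
  have h1 := h t u
  have hc' : Commute (D.x i (t * u)) (D.x j (t ^ 2 * u)) := by
    rcases hc with hc | hc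
    · exact hc _ _
    · exact (hc _ _).symm
  have sq : ∀ (r : Fin 8) (v : F), D.x r v * D.x r v = 1 := by
    intro r v
    rw [← D.x_add, CharTwo.add_self_eq_zero, D.x_zero]
  have inv : ∀ (r : Fin 8) (v : F), (D.x r v)⁻¹ = D.x r v := fun r v => inv_eq_of_mul_eq_one_left (sq r v)
  have h2 : (D.x l u)⁻¹ * (D.x s t)⁻¹ * D.x l u * D.x s t =
      ((D.x s t)⁻¹ * (D.x l u)⁻¹ * D.x s t * D.x l u)⁻¹ := by group
  rw [h2, h1, _root_.mul_inv_rev, inv, inv, hc'.eq]


/-- the commutator formula for the pair (r, s) -/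
def CF (r s : Fin 8) : Prop := ∀ t u : F, (D.x s u)⁻¹ * (D.x r t)⁻¹ * D.x s u * D.x r t = D.W (chevB2.commWord F r s t u)

theorem cf01 : D.CF 0 1 := by
  intro t u
  have ht : chevB2.commTerms (((0 : Fin 8) : ℕ)) (((1 : Fin 8) : ℕ)) = [] := by decide
  rw [ChevalleyDatum.commWord, ht]
  rw [D.comm_of_com (D.com10.symm) t u]
  simp [W, X_val, x_zero, CharTwo.neg_eq, CharTwo.two_eq_zero]

theorem cf02 : D.CF 0 2 := by
  intro t u
  have ht : chevB2.commTerms (((0 : Fin 8) : ℕ)) (((2 : Fin 8) : ℕ)) = [] := by decide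
  rw [ChevalleyDatum.commWord, ht]
  rw [D.comm_of_com (D.com20.symm) t u]
  simp [W, X_val, x_zero, CharTwo.neg_eq, CharTwo.two_eq_zero]

theorem cf03 : D.CF 0 3 := by
  intro t u
  have ht : chevB2.commTerms (((0 : Fin 8) : ℕ)) (((3 : Fin 8) : ℕ)) = [] := by decide
  rw [ChevalleyDatum.commWord, ht]
  rw [D.comm_of_com (D.com30.symm) t u]
  simp [W, X_val, x_zero, CharTwo.neg_eq, CharTwo.two_eq_zero]

theorem cf04 : D.CF 0 4 := by
  intro t u
  have ht : chevB2.commTerms (((0 : Fin 8) : ℕ)) (((4 : Fin 8) : ℕ)) = [] := by decide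
  rw [ChevalleyDatum.commWord, ht]
  rw [D.comm_of_com (D.com40.symm) t u]
  simp [W, X_val, x_zero, CharTwo.neg_eq, CharTwo.two_eq_zero]

theorem cf05 : D.CF 0 5 := by
  intro t u
  have ht : chevB2.commTerms (((0 : Fin 8) : ℕ)) (((5 : Fin 8) : ℕ)) = [(1, 1, 1, 1), (3, -1, 1, 2)] := by decide
  rw [ChevalleyDatum.commWord, ht]
  rw [D.rel50 u t]
  simp [W, X_val, CharTwo.neg_eq, mul_comm]

theorem cf06 : D.CF 0 6 := by
  intro t u
  have ht : chevB2.commTerms (((0 : Fin 8) : ℕ)) (((6 : Fin 8) : ℕ)) = [(2, -1, 1, 1), (4, 1, 1, 2)] := by decide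
  rw [ChevalleyDatum.commWord, ht]
  rw [D.rel60 u t]
  simp [W, X_val, CharTwo.neg_eq, mul_comm]

theorem cf10 : D.CF 1 0 := by
  intro t u
  have ht : chevB2.commTerms (((1 : Fin 8) : ℕ)) (((0 : Fin 8) : ℕ)) = [] := by decide
  rw [ChevalleyDatum.commWord, ht]
  rw [D.comm_of_com (D.com10) t u]
  simp [W, X_val, x_zero, CharTwo.neg_eq, CharTwo.two_eq_zero]

theorem cf12 : D.CF 1 2 := by
  intro t u
  have ht : chevB2.commTerms (((1 : Fin 8) : ℕ)) (((2 : Fin 8) : ℕ)) = [(0, 2, 1, 1)] := by decide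
  rw [ChevalleyDatum.commWord, ht]
  rw [D.comm_of_com (D.com21.symm) t u]
  simp [W, X_val, x_zero, CharTwo.neg_eq, CharTwo.two_eq_zero]

theorem cf13 : D.CF 1 3 := by
  intro t u
  have ht : chevB2.commTerms (((1 : Fin 8) : ℕ)) (((3 : Fin 8) : ℕ)) = [] := by decide
  rw [ChevalleyDatum.commWord, ht]
  rw [D.comm_of_com (D.com13) t u]
  simp [W, X_val, x_zero, CharTwo.neg_eq, CharTwo.two_eq_zero]

theorem cf14 : D.CF 1 4 := by
  intro t u
  have ht : chevB2.commTerms (((1 : Fin 8) : ℕ)) (((4 : Fin 8) : ℕ)) = [(2, 1, 1, 1), (0, 1, 2, 1)] := by decide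
  rw [ChevalleyDatum.commWord, ht]
  rw [D.comm_of_rel' D.rel14 (Or.inl (D.com20)) t u]
  simp [W, X_val, CharTwo.neg_eq]

theorem cf15 : D.CF 1 5 := by
  intro t u
  have ht : chevB2.commTerms (((1 : Fin 8) : ℕ)) (((5 : Fin 8) : ℕ)) = [(3, -2, 1, 1)] := by decide
  rw [ChevalleyDatum.commWord, ht]
  rw [D.comm_of_com (D.com51.symm) t u]
  simp [W, X_val, x_zero, CharTwo.neg_eq, CharTwo.two_eq_zero]

theorem cf17 : D.CF 1 7 := by
  intro t u
  have ht : chevB2.commTerms (((1 : Fin 8) : ℕ)) (((7 : Fin 8) : ℕ)) = [(5, -1, 1, 1), (3, 1, 2, 1)] := by decide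
  rw [ChevalleyDatum.commWord, ht]
  rw [D.comm_of_rel' D.rel17 (Or.inl (D.com53)) t u]
  simp [W, X_val, CharTwo.neg_eq]

theorem cf20 : D.CF 2 0 := by
  intro t u
  have ht : chevB2.commTerms (((2 : Fin 8) : ℕ)) (((0 : Fin 8) : ℕ)) = [] := by decide
  rw [ChevalleyDatum.commWord, ht]
  rw [D.comm_of_com (D.com20) t u]
  simp [W, X_val, x_zero, CharTwo.neg_eq, CharTwo.two_eq_zero]

theorem cf21 : D.CF 2 1 := by
  intro t u
  have ht : chevB2.commTerms (((2 : Fin 8) : ℕ)) (((1 : Fin 8) : ℕ)) = [(0, -2, 1, 1)] := by decide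
  rw [ChevalleyDatum.commWord, ht]
  rw [D.comm_of_com (D.com21) t u]
  simp [W, X_val, x_zero, CharTwo.neg_eq, CharTwo.two_eq_zero]

theorem cf23 : D.CF 2 3 := by
  intro t u
  have ht : chevB2.commTerms (((2 : Fin 8) : ℕ)) (((3 : Fin 8) : ℕ)) = [(1, 1, 1, 1), (0, -1, 2, 1)] := by decide
  rw [ChevalleyDatum.commWord, ht]
  rw [D.comm_of_rel' D.rel23 (Or.inl (D.com10)) t u]
  simp [W, X_val, CharTwo.neg_eq]

theorem cf24 : D.CF 2 4 := by
  intro t u
  have ht : chevB2.commTerms (((2 : Fin 8) : ℕ)) (((4 : Fin 8) : ℕ)) = [] := by decide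
  rw [ChevalleyDatum.commWord, ht]
  rw [D.comm_of_com (D.com24) t u]
  simp [W, X_val, x_zero, CharTwo.neg_eq, CharTwo.two_eq_zero]

theorem cf26 : D.CF 2 6 := by
  intro t u
  have ht : chevB2.commTerms (((2 : Fin 8) : ℕ)) (((6 : Fin 8) : ℕ)) = [(4, -2, 1, 1)] := by decide
  rw [ChevalleyDatum.commWord, ht]
  rw [D.comm_of_com (D.com26) t u]
  simp [W, X_val, x_zero, CharTwo.neg_eq, CharTwo.two_eq_zero]

theorem cf27 : D.CF 2 7 := by
  intro t u
  have ht : chevB2.commTerms (((2 : Fin 8) : ℕ)) (((7 : Fin 8) : ℕ)) = [(6, 1, 1, 1), (4, -1, 2, 1)] := by decide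
  rw [ChevalleyDatum.commWord, ht]
  rw [D.comm_of_rel' D.rel27 (Or.inl (D.com64)) t u]
  simp [W, X_val, CharTwo.neg_eq]

theorem cf30 : D.CF 3 0 := by
  intro t u
  have ht : chevB2.commTerms (((3 : Fin 8) : ℕ)) (((0 : Fin 8) : ℕ)) = [] := by decide
  rw [ChevalleyDatum.commWord, ht]
  rw [D.comm_of_com (D.com30) t u]
  simp [W, X_val, x_zero, CharTwo.neg_eq, CharTwo.two_eq_zero]

theorem cf31 : D.CF 3 1 := by
  intro t u
  have ht : chevB2.commTerms (((3 : Fin 8) : ℕ)) (((1 : Fin 8) : ℕ)) = [] := by decide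
  rw [ChevalleyDatum.commWord, ht]
  rw [D.comm_of_com (D.com13.symm) t u]
  simp [W, X_val, x_zero, CharTwo.neg_eq, CharTwo.two_eq_zero]

theorem cf32 : D.CF 3 2 := by
  intro t u
  have ht : chevB2.commTerms (((3 : Fin 8) : ℕ)) (((2 : Fin 8) : ℕ)) = [(1, -1, 1, 1), (0, -1, 1, 2)] := by decide
  rw [ChevalleyDatum.commWord, ht]
  rw [D.rel23 u t]
  simp [W, X_val, CharTwo.neg_eq, mul_comm]

theorem cf35 : D.CF 3 5 := by
  intro t u
  have ht : chevB2.commTerms (((3 : Fin 8) : ℕ)) (((5 : Fin 8) : ℕ)) = [] := by decide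
  rw [ChevalleyDatum.commWord, ht]
  rw [D.comm_of_com (D.com53.symm) t u]
  simp [W, X_val, x_zero, CharTwo.neg_eq, CharTwo.two_eq_zero]

theorem cf36 : D.CF 3 6 := by
  intro t u
  have ht : chevB2.commTerms (((3 : Fin 8) : ℕ)) (((6 : Fin 8) : ℕ)) = [(5, 1, 1, 1), (7, 1, 1, 2)] := by decide
  rw [ChevalleyDatum.commWord, ht]
  rw [D.rel63 u t]
  simp [W, X_val, CharTwo.neg_eq, mul_comm]

theorem cf37 : D.CF 3 7 := by
  intro t u
  have ht : chevB2.commTerms (((3 : Fin 8) : ℕ)) (((7 : Fin 8) : ℕ)) = [] := by decide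
  rw [ChevalleyDatum.commWord, ht]
  rw [D.comm_of_com (D.com37) t u]
  simp [W, X_val, x_zero, CharTwo.neg_eq, CharTwo.two_eq_zero]

theorem cf40 : D.CF 4 0 := by
  intro t u
  have ht : chevB2.commTerms (((4 : Fin 8) : ℕ)) (((0 : Fin 8) : ℕ)) = [] := by decide
  rw [ChevalleyDatum.commWord, ht]
  rw [D.comm_of_com (D.com40) t u]
  simp [W, X_val, x_zero, CharTwo.neg_eq, CharTwo.two_eq_zero]

theorem cf41 : D.CF 4 1 := by
  intro t u
  have ht : chevB2.commTerms (((4 : Fin 8) : ℕ)) (((1 : Fin 8) : ℕ)) = [(2, -1, 1, 1), (0, 1, 1, 2)] := by decide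
  rw [ChevalleyDatum.commWord, ht]
  rw [D.rel14 u t]
  simp [W, X_val, CharTwo.neg_eq, mul_comm]

theorem cf42 : D.CF 4 2 := by
  intro t u
  have ht : chevB2.commTerms (((4 : Fin 8) : ℕ)) (((2 : Fin 8) : ℕ)) = [] := by decide
  rw [ChevalleyDatum.commWord, ht]
  rw [D.comm_of_com (D.com24.symm) t u]
  simp [W, X_val, x_zero, CharTwo.neg_eq, CharTwo.two_eq_zero]

theorem cf45 : D.CF 4 5 := by
  intro t u
  have ht : chevB2.commTerms (((4 : Fin 8) : ℕ)) (((5 : Fin 8) : ℕ)) = [(6, 1, 1, 1), (7, -1, 1, 2)] := by decide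
  rw [ChevalleyDatum.commWord, ht]
  rw [D.rel54 u t]
  simp [W, X_val, CharTwo.neg_eq, mul_comm]

theorem cf46 : D.CF 4 6 := by
  intro t u
  have ht : chevB2.commTerms (((4 : Fin 8) : ℕ)) (((6 : Fin 8) : ℕ)) = [] := by decide
  rw [ChevalleyDatum.commWord, ht]
  rw [D.comm_of_com (D.com64.symm) t u]
  simp [W, X_val, x_zero, CharTwo.neg_eq, CharTwo.two_eq_zero]

theorem cf47 : D.CF 4 7 := by
  intro t u
  have ht : chevB2.commTerms (((4 : Fin 8) : ℕ)) (((7 : Fin 8) : ℕ)) = [] := by decide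
  rw [ChevalleyDatum.commWord, ht]
  rw [D.comm_of_com (D.com47) t u]
  simp [W, X_val, x_zero, CharTwo.neg_eq, CharTwo.two_eq_zero]

theorem cf50 : D.CF 5 0 := by
  intro t u
  have ht : chevB2.commTerms (((5 : Fin 8) : ℕ)) (((0 : Fin 8) : ℕ)) = [(1, -1, 1, 1), (3, -1, 2, 1)] := by decide
  rw [ChevalleyDatum.commWord, ht]
  rw [D.comm_of_rel' D.rel50 (Or.inl (D.com13)) t u]
  simp [W, X_val, CharTwo.neg_eq]

theorem cf51 : D.CF 5 1 := by
  intro t u
  have ht : chevB2.commTerms (((5 : Fin 8) : ℕ)) (((1 : Fin 8) : ℕ)) = [(3, 2, 1, 1)] := by decide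
  rw [ChevalleyDatum.commWord, ht]
  rw [D.comm_of_com (D.com51) t u]
  simp [W, X_val, x_zero, CharTwo.neg_eq, CharTwo.two_eq_zero]

theorem cf53 : D.CF 5 3 := by
  intro t u
  have ht : chevB2.commTerms (((5 : Fin 8) : ℕ)) (((3 : Fin 8) : ℕ)) = [] := by decide
  rw [ChevalleyDatum.commWord, ht]
  rw [D.comm_of_com (D.com53) t u]
  simp [W, X_val, x_zero, CharTwo.neg_eq, CharTwo.two_eq_zero]

theorem cf54 : D.CF 5 4 := by
  intro t u
  have ht : chevB2.commTerms (((5 : Fin 8) : ℕ)) (((4 : Fin 8) : ℕ)) = [(6, -1, 1, 1), (7, -1, 2, 1)] := by decide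
  rw [ChevalleyDatum.commWord, ht]
  rw [D.comm_of_rel' D.rel54 (Or.inl (D.com67)) t u]
  simp [W, X_val, CharTwo.neg_eq]

theorem cf56 : D.CF 5 6 := by
  intro t u
  have ht : chevB2.commTerms (((5 : Fin 8) : ℕ)) (((6 : Fin 8) : ℕ)) = [(7, 2, 1, 1)] := by decide
  rw [ChevalleyDatum.commWord, ht]
  rw [D.comm_of_com (D.com56) t u]
  simp [W, X_val, x_zero, CharTwo.neg_eq, CharTwo.two_eq_zero]

theorem cf57 : D.CF 5 7 := by
  intro t u
  have ht : chevB2.commTerms (((5 : Fin 8) : ℕ)) (((7 : Fin 8) : ℕ)) = [] := by decide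
  rw [ChevalleyDatum.commWord, ht]
  rw [D.comm_of_com (D.com57) t u]
  simp [W, X_val, x_zero, CharTwo.neg_eq, CharTwo.two_eq_zero]

theorem cf60 : D.CF 6 0 := by
  intro t u
  have ht : chevB2.commTerms (((6 : Fin 8) : ℕ)) (((0 : Fin 8) : ℕ)) = [(2, 1, 1, 1), (4, 1, 2, 1)] := by decide
  rw [ChevalleyDatum.commWord, ht]
  rw [D.comm_of_rel' D.rel60 (Or.inl (D.com24)) t u]
  simp [W, X_val, CharTwo.neg_eq]

theorem cf62 : D.CF 6 2 := by
  intro t u
  have ht : chevB2.commTerms (((6 : Fin 8) : ℕ)) (((2 : Fin 8) : ℕ)) = [(4, 2, 1, 1)] := by decide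
  rw [ChevalleyDatum.commWord, ht]
  rw [D.comm_of_com (D.com26.symm) t u]
  simp [W, X_val, x_zero, CharTwo.neg_eq, CharTwo.two_eq_zero]

theorem cf63 : D.CF 6 3 := by
  intro t u
  have ht : chevB2.commTerms (((6 : Fin 8) : ℕ)) (((3 : Fin 8) : ℕ)) = [(5, -1, 1, 1), (7, 1, 2, 1)] := by decide
  rw [ChevalleyDatum.commWord, ht]
  rw [D.comm_of_rel' D.rel63 (Or.inl (D.com57)) t u]
  simp [W, X_val, CharTwo.neg_eq]

theorem cf64 : D.CF 6 4 := by
  intro t u
  have ht : chevB2.commTerms (((6 : Fin 8) : ℕ)) (((4 : Fin 8) : ℕ)) = [] := by decide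
  rw [ChevalleyDatum.commWord, ht]
  rw [D.comm_of_com (D.com64) t u]
  simp [W, X_val, x_zero, CharTwo.neg_eq, CharTwo.two_eq_zero]

theorem cf65 : D.CF 6 5 := by
  intro t u
  have ht : chevB2.commTerms (((6 : Fin 8) : ℕ)) (((5 : Fin 8) : ℕ)) = [(7, -2, 1, 1)] := by decide
  rw [ChevalleyDatum.commWord, ht]
  rw [D.comm_of_com (D.com56.symm) t u]
  simp [W, X_val, x_zero, CharTwo.neg_eq, CharTwo.two_eq_zero]

theorem cf67 : D.CF 6 7 := by
  intro t u
  have ht : chevB2.commTerms (((6 : Fin 8) : ℕ)) (((7 : Fin 8) : ℕ)) = [] := by decide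
  rw [ChevalleyDatum.commWord, ht]
  rw [D.comm_of_com (D.com67) t u]
  simp [W, X_val, x_zero, CharTwo.neg_eq, CharTwo.two_eq_zero]

theorem cf71 : D.CF 7 1 := by
  intro t u
  have ht : chevB2.commTerms (((7 : Fin 8) : ℕ)) (((1 : Fin 8) : ℕ)) = [(5, 1, 1, 1), (3, 1, 1, 2)] := by decide
  rw [ChevalleyDatum.commWord, ht]
  rw [D.rel17 u t]
  simp [W, X_val, CharTwo.neg_eq, mul_comm]

theorem cf72 : D.CF 7 2 := by
  intro t u
  have ht : chevB2.commTerms (((7 : Fin 8) : ℕ)) (((2 : Fin 8) : ℕ)) = [(6, -1, 1, 1), (4, -1, 1, 2)] := by decide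
  rw [ChevalleyDatum.commWord, ht]
  rw [D.rel27 u t]
  simp [W, X_val, CharTwo.neg_eq, mul_comm]

theorem cf73 : D.CF 7 3 := by
  intro t u
  have ht : chevB2.commTerms (((7 : Fin 8) : ℕ)) (((3 : Fin 8) : ℕ)) = [] := by decide
  rw [ChevalleyDatum.commWord, ht]
  rw [D.comm_of_com (D.com37.symm) t u]
  simp [W, X_val, x_zero, CharTwo.neg_eq, CharTwo.two_eq_zero]

theorem cf74 : D.CF 7 4 := by
  intro t u
  have ht : chevB2.commTerms (((7 : Fin 8) : ℕ)) (((4 : Fin 8) : ℕ)) = [] := by decide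
  rw [ChevalleyDatum.commWord, ht]
  rw [D.comm_of_com (D.com47.symm) t u]
  simp [W, X_val, x_zero, CharTwo.neg_eq, CharTwo.two_eq_zero]

theorem cf75 : D.CF 7 5 := by
  intro t u
  have ht : chevB2.commTerms (((7 : Fin 8) : ℕ)) (((5 : Fin 8) : ℕ)) = [] := by decide
  rw [ChevalleyDatum.commWord, ht]
  rw [D.comm_of_com (D.com57.symm) t u]
  simp [W, X_val, x_zero, CharTwo.neg_eq, CharTwo.two_eq_zero]

theorem cf76 : D.CF 7 6 := by
  intro t u
  have ht : chevB2.commTerms (((7 : Fin 8) : ℕ)) (((6 : Fin 8) : ℕ)) = [] := by decide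
  rw [ChevalleyDatum.commWord, ht]
  rw [D.comm_of_com (D.com67.symm) t u]
  simp [W, X_val, x_zero, CharTwo.neg_eq, CharTwo.two_eq_zero]

theorem cf (r s : Fin 8) (h1 : s ≠ r) (h2 : s ≠ ng r) : D.CF r s := by
  fin_cases r <;> fin_cases s
  · exact absurd rfl h1
  · exact D.cf01
  · exact D.cf02
  · exact D.cf03
  · exact D.cf04
  · exact D.cf05
  · exact D.cf06
  · exact absurd rfl h2
  · exact D.cf10
  · exact absurd rfl h1
  · exact D.cf12
  · exact D.cf13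
  · exact D.cf14
  · exact D.cf15
  · exact absurd rfl h2
  · exact D.cf17
  · exact D.cf20
  · exact D.cf21
  · exact absurd rfl h1
  · exact D.cf23
  · exact D.cf24
  · exact absurd rfl h2
  · exact D.cf26
  · exact D.cf27
  · exact D.cf30
  · exact D.cf31
  · exact D.cf32
  · exact absurd rfl h1
  · exact absurd rfl h2
  · exact D.cf35
  · exact D.cf36
  · exact D.cf37
  · exact D.cf40
  · exact D.cf41
  · exact D.cf42
  · exact absurd rfl h2
  · exact absurd rfl h1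
  · exact D.cf45
  · exact D.cf46
  · exact D.cf47
  · exact D.cf50
  · exact D.cf51
  · exact absurd rfl h2
  · exact D.cf53
  · exact D.cf54
  · exact absurd rfl h1
  · exact D.cf56
  · exact D.cf57
  · exact D.cf60
  · exact absurd rfl h2
  · exact D.cf62
  · exact D.cf63
  · exact D.cf64
  · exact D.cf65
  · exact absurd rfl h1
  · exact D.cf67
  · exact absurd rfl h2
  · exact D.cf71
  · exact D.cf72
  · exact D.cf73
  · exact D.cf74
  · exact D.cf75
  · exact D.cf76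
  · exact absurd rfl h1

/-- the generator map -/
def gen : Fin chevB2.nroots × F → G := fun p => D.x p.1 p.2

omit [CharP F 2] in
theorem lift_stX (r : ℕ) (t : F) : FreeGroup.lift D.gen (chevB2.stX r t) = D.X r t := by
  unfold ChevalleyDatum.stX X
  by_cases h : r < 8
  · rw [dif_pos h, dif_pos (show r < chevB2.nroots from h)]
    simp only [FreeGroup.lift_apply_of]
    rfl
  · rw [dif_neg h, dif_neg (show ¬ r < chevB2.nroots from h), map_one]

omit [CharP F 2] in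
theorem lift_stWord (w : List (ℕ × F)) : FreeGroup.lift D.gen (chevB2.stWord w) = D.W w := by
  unfold ChevalleyDatum.stWord W
  rw [map_list_prod, List.map_map]
  congr 1
  apply List.map_congr_left
  intro p _
  exact D.lift_stX p.1 p.2

theorem neg_fin (r : Fin 8) : chevB2.neg r = ng r := by
  revert r; decide

theorem lift_stH (r : Fin 8) (c : Fˣ) : FreeGroup.lift D.gen (chevB2.stH r (c : F)) = D.ψ r (dg c) := by
  unfold ChevalleyDatum.stH
  rw [lift_stWord, ← up_lo_up]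
  have hX : ∀ t : F, D.X (r : ℕ) t = D.ψ r (up t) := fun t => D.X_val _ r.2 t
  have hX' : ∀ t : F, D.X (chevB2.neg r) t = D.ψ r (lo t) := by
    intro t
    rw [neg_fin, D.X_val _ (ng r).2 t, D.ψ_lo]
  simp only [ChevalleyDatum.hWord, ChevalleyDatum.nWord, W, List.map_append, List.map_cons, List.map_nil,
    List.prod_append, List.prod_cons, List.prod_nil, mul_one, hX, hX', map_mul]
  simp only [mul_assoc]
  congr 7
  norm_num

theorem exists_hom : ∃ f : chevB2.SteinbergGroup F →* G, ∀ (r : Fin 8) (t : F), f (chevB2.stGen F r t) = D.x r t := by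
  have key : ∀ g ∈ chevB2.steinbergRels F, FreeGroup.lift D.gen g = 1 := by
    intro g hg
    rcases hg with (⟨r, t₁, t₂, hr, rfl⟩ | ⟨r, s, t, u, hr, hs, h1, h2, rfl⟩) | ⟨r, t₁, t₂, hr, h1, h2, rfl⟩
    · simp only [map_mul, map_inv, lift_stX]
      rw [D.X_val r hr, D.X_val r hr, D.X_val r hr, D.x_add, mul_inv_cancel]
    · simp only [map_mul, map_inv, lift_stX, lift_stWord]
      have h := D.cf ⟨r, hr⟩ ⟨s, hs⟩ (fun h => h1 (congrArg Fin.val h))
        (fun h => h2 (by rw [show chevB2.neg r = ((ng ⟨r, hr⟩ : Fin 8) : ℕ) from neg_fin ⟨r, hr⟩]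
                         exact congrArg Fin.val h)) t u
      rw [D.X_val r hr, D.X_val s hs, h, mul_inv_cancel]
    · simp only [map_mul, map_inv]
      have e1 := D.lift_stH ⟨r, hr⟩ (Units.mk0 t₁ h1)
      have e2 := D.lift_stH ⟨r, hr⟩ (Units.mk0 t₂ h2)
      have e3 := D.lift_stH ⟨r, hr⟩ (Units.mk0 t₁ h1 * Units.mk0 t₂ h2)
      simp only [Units.val_mul, Units.val_mk0] at e1 e2 e3
      rw [e1, e2, e3, dg_mul, map_mul, mul_inv_cancel]
  refine ⟨PresentedGroup.toGroup (f := D.gen) key, fun r t => ?_⟩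
  show FreeGroup.lift D.gen (chevB2.stX r t) = D.x r t
  rw [lift_stX, D.X_val _ r.2]

end TwoSL

end Cfsg.Agent.SpFour.Steinberg
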